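import Cfsg.Agent.SPOR.H3.Cover
import Cfsg.Agent.SPOR.H3.Defs2

/-! The section over the 45 points of `U₄(2)`. -/

set_option autoImplicit false

namespace CL.H3

open Cfsg CL.TT CL.TTU CL.FT CL.K

variable {G X : Type*} [Group G] [Group X] {π : G →* X} {D : Set G} {E : Set X}

namespace U4

/-- the conditions of `Cov.ext` in a table -/
structure Ck (T : ℕ → ℕ → ℕ) (A : ℕ → ℕ) (k m : ℕ) : Prop where
  cl : ∀ a < m, ∀ b < m, T a b < m
  sp : ∀ a < m, A a < 2 ^ m ∧ ∀ s < m, ((A a).testBit s = true ↔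
    k ≤ s ∧ k ≤ a ∧ T s a ≠ a ∧ T s a < k)
  qd : ∀ a < m, ∀ b < m, (A b).testBit a = true → ∀ c < m, (A c).testBit b = true → a ≠ c →
    ¬ (A c).testBit a = true → ∀ d < m, (A d).testBit c = true → b ≠ d → ¬ (A d).testBit b = true →
    ((A a).testBit d = true → A a &&& A b &&& A c &&& A d ≠ 0) ∧
      (a ≠ d → ¬ (A d).testBit a = true → A a &&& A c &&& A d ≠ 0)
  ln : ∀ a < m, ∀ b < m, k ≤ a → k ≤ b → T a b ≠ b → k ≤ T a b → A a &&& A b &&& A (T a b) ≠ 0

theorem fs_lt {n m : ℕ} {T : ℕ → ℕ → ℕ} {f : ℕ → X} (R : Real n T E f) (hm : m ≤ n)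
    (cl : ∀ a < m, ∀ b < m, T a b < m) : f '' Set.Iio m ⊆ E ∧ FS (f '' Set.Iio m) := by
  have s : f '' Set.Iio m ⊆ E := by
    rintro _ ⟨a, ha, rfl⟩
    exact R.mem (lt_of_lt_of_le ha hm)
  refine ⟨s, R.fs.subset s ?_⟩
  rintro _ ⟨a, ha, rfl⟩ _ ⟨b, hb, rfl⟩
  exact ⟨_, cl a ha b hb, R.hop a (lt_of_lt_of_le ha hm) b (lt_of_lt_of_le hb hm)⟩

theorem ext_lt (C : Cov π D E) {n k m : ℕ} {T : ℕ → ℕ → ℕ} {A : ℕ → ℕ} {f : ℕ → X}
    (R : Real n T E f) (hk : k ≤ m) (hm : m ≤ n) (cl : ∀ a < k, ∀ b < k, T a b < k)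
    (c : Ck T A k m) (S : HasSc π D (f '' Set.Iio k)) : HasSc π D (f '' Set.Iio m) := by
  obtain ⟨σ, S⟩ := S
  obtain ⟨s1, f1⟩ := fs_lt R hm c.cl
  obtain ⟨-, f0⟩ := fs_lt R (hk.trans hm) cl
  have mk : ∀ a < n, (f a ∈ f '' Set.Iio k ↔ a < k) := fun a ha =>
    ⟨fun ⟨b, hb, e⟩ => R.inj (lt_of_lt_of_le hb (hk.trans hm)) ha e ▸ hb, fun h => ⟨a, h, rfl⟩⟩
  have nw : ∀ x ∈ f '' Set.Iio m \ f '' Set.Iio k, ∃ a < m, k ≤ a ∧ f a = x := by
    rintro _ ⟨⟨a, ha, rfl⟩, q⟩
    exact ⟨a, ha, not_lt.1 fun h => q ⟨a, h, rfl⟩, rfl⟩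
  have cm : ∀ a < m, ∀ b < m, (Commute (f a) (f b) ↔ T a b = b) := fun a ha b hb => by
    rw [R.commute_iff (by omega) (by omega), com, beq_iff]
  have ad : ∀ {a s}, a < m → k ≤ a → s < m → k ≤ s →
      (Adj (f '' Set.Iio k) (f s) (f a) ↔ (A a).testBit s = true) := fun {a s} h1 h2 h3 h4 => by
    rw [(c.sp a h1).2 s h3, Adj, cm s h3 a h1, ← R.hop s (by omega) a (by omega),
      mk _ (R.lt s (by omega) a (by omega))]
    simp [h2, h4]
  have ex : ∀ {a M}, a < m → A a &&& M ≠ 0 → ∃ s < m, k ≤ s ∧ (A a).testBit s = true ∧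
      M.testBit s = true ∧ f s ∈ f '' Set.Iio m \ f '' Set.Iio k := fun {a M} ha h => by
    obtain ⟨s, hs⟩ := Nat.exists_testBit_of_ne_zero h
    rw [Nat.testBit_and, Bool.and_eq_true] at hs
    have l : s < m := by
      by_contra q
      rw [Nat.testBit_lt_two_pow (lt_of_lt_of_le (c.sp a ha).1
        (Nat.pow_le_pow_right (by norm_num) (not_lt.1 q)))] at hs
      exact absurd hs.1 (by simp)
    have l' := (((c.sp a ha).2 s l).1 hs.1).1
    exact ⟨s, l, l', hs.1, hs.2, ⟨s, l, rfl⟩, by rw [mk s (by omega)]; omega⟩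
  obtain ⟨τ, h, -⟩ := C.ext f1 s1 f0 (Set.image_mono (Set.Iio_subset_Iio hk)) S
    (fun a ha b hb x hc d hd => by
      obtain ⟨a, a1, a2, rfl⟩ := nw a ha
      obtain ⟨b, b1, b2, rfl⟩ := nw b hb
      obtain ⟨x, c1, c2, rfl⟩ := nw x hc
      obtain ⟨d, d1, d2, rfl⟩ := nw d hd
      rw [ad b1 b2 a1 a2, ad c1 c2 b1 b2, ad d1 d2 c1 c2, ad a1 a2 d1 d2, ad c1 c2 a1 a2,
        ad d1 d2 b1 b2]
      intro h1 h2 h3 h4 h5 h6 h7 h8
      have := (c.qd a a1 b b1 h1 x c1 h2 (fun e => h5 (e ▸ rfl)) h6 d d1 h3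
        (fun e => h7 (e ▸ rfl)) h8).1 h4
      rw [Nat.and_assoc, Nat.and_assoc] at this
      obtain ⟨s, s1, s2, t1, t2, t3⟩ := ex a1 this
      simp only [Nat.testBit_and, Bool.and_eq_true] at t2
      exact Or.inl ⟨_, t3, (ad a1 a2 s1 s2).2 t1, (ad b1 b2 s1 s2).2 t2.1,
        (ad c1 c2 s1 s2).2 t2.2.1, (ad d1 d2 s1 s2).2 t2.2.2⟩)
    (fun a ha b hb x hc d hd => by
      obtain ⟨a, a1, a2, rfl⟩ := nw a ha
      obtain ⟨b, b1, b2, rfl⟩ := nw b hb
      obtain ⟨x, c1, c2, rfl⟩ := nw x hc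
      obtain ⟨d, d1, d2, rfl⟩ := nw d hd
      rw [ad b1 b2 a1 a2, ad c1 c2 b1 b2, ad d1 d2 c1 c2, ad c1 c2 a1 a2, ad d1 d2 b1 b2,
        ad d1 d2 a1 a2]
      intro h1 h2 h3 h5 h6 h7 h8 h9 h0
      have := (c.qd a a1 b b1 h1 x c1 h2 (fun e => h5 (e ▸ rfl)) h6 d d1 h3
        (fun e => h7 (e ▸ rfl)) h8).2 (fun e => h9 (e ▸ rfl)) h0
      rw [Nat.and_assoc] at this
      obtain ⟨s, s1, s2, t1, t2, t3⟩ := ex a1 this
      simp only [Nat.testBit_and, Bool.and_eq_true] at t2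
      exact ⟨_, t3, (ad a1 a2 s1 s2).2 t1, (ad c1 c2 s1 s2).2 t2.1, (ad d1 d2 s1 s2).2 t2.2⟩)
    (fun a ha b hb => by
      obtain ⟨a, a1, a2, rfl⟩ := nw a ha
      obtain ⟨b, b1, b2, rfl⟩ := nw b hb
      rw [cm a a1 b b1, ← R.hop a (by omega) b (by omega), mk _ (R.lt a (by omega) b (by omega))]
      intro h1 h2
      have := c.ln a a1 b b1 a2 b2 h1 (not_lt.1 h2)
      rw [Nat.and_assoc] at this
      obtain ⟨s, s1, s2, t1, t2, t3⟩ := ex a1 this
      simp only [Nat.testBit_and, Bool.and_eq_true] at t2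
      exact ⟨_, t3, (ad a1 a2 s1 s2).2 t1, (ad b1 b2 s1 s2).2 t2.1,
        (ad (c.cl a a1 b b1) (not_lt.1 h2) s1 s2).2 t2.2⟩)
  exact ⟨τ, h⟩

/-- the Gram matrix -/
def gr (x y : Fin 5 → ZMod 3) : ZMod 3 :=
  2 * x 0 * y 0 + x 1 * y 3 + x 3 * y 1 + x 2 * y 4 + x 4 * y 2

/-- the points -/
def pv (i : ℕ) (k : Fin 5) : ZMod 3 := FT.tb 0x1a99a699566a559595954a118491146816048190541105a419294152445104464150825098150580501891144402909421064150440901401 5 i k

/-- the operation -/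
def T45 (i j : ℕ) : ℕ := fld 6 63 0x2c22a42451f0288cb3ca99e11c60165b3065671514a984e3578a026b1d64dd0c26a522b449a2301d5673a15c47a570a0cf3201e45024aa41988d60b6e9b161857da4c19ac46a16002250a3a68682de74769b3415d60e5408ad33e364c7e4252706a4454262740916901c9a13e35a51d979d9cb35f18e884513091b245da31b2ab22062a543481a24ae00281c93ec5a242a7cb6456cc7434632144c15e194e35a78a9959c67046024a952301c1e73a592b44a15f68ba5b78c097586b0f12241398d65d849228560483601a9f022a493a612446a560b0a2176c640d7058540528d93e760c2dea1d1da5a50c24eb01d5213e712540b8a980862b29b09978d0d5a873919284973237097d3185996681b2854a3ec9e642419e0202627530d1118056ac770c6a5a4e3522ea7c85231596c25e1b273a95ab44b1a301b8120dd2616823c5a1520c7e6418a8d4e529c50791711e64188b3a65a846a95e0220c97e449c19a0501e954435d9d83eb4ccb0a8085db1548426633ebaa540a56901b0e14df1897233886025a6160351a2c69230b9dd6477941225c190a5e81ea1669648c94e079f34031a648ace04f84345051675b2ec898a469c448255c9842d9a27b082528a179f80030d16961704f38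68d141551b72a2a49474daac309676caeaa4b68a6220e419f81e30d0271e510f3814d245059571da262486611578c251b125aa964b22b92348934031d6dc1e861709044389454f3a07a72a199a185b135817ecac79c5a5729326284030d6dc75a6449910909065943ce79f2e58c8a92a180d506060a68ba279a50e11a330d01c75ba85b0841109349558f39f829ac95c78991245017810db34c7860918e23a01671dca9a2d84932945979103e1a686552487667c4ae5b00b0f35f74c4251020488291e87052d94d45895d84919ab3aa9da29585e19b9038e201b30118308d7a43d08487e5744b1a4d828b4946554628ce9ab5972601e915ca27a80320a8e46770d0451c2adf11d9884942972556536a840fa65b0b6166e21a37838640061ea8a39c50e4a2984e04f09141364b25651569271b7a034c60a5c8aec98495d7c0b240c4206865ae38a604f39009128949751559361b75f78d30b699a079c5a6a720027ae5a68b26a8720414f38145009a5d865559428b75c81f34c4932639068620db780142429a0f04770c36084678391b598657695293251aa73a28cb5122257ec11dae6011ac808112638c7dd3438de8866d765569660b252b103e586450a4ea1dc167829a004aaae95e28e56a69e181f79459591962871b753b1108d0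0f0440c52071892ca40c3a9ad3b219d99258d8a207de55459a9a25db75ca9209000c04e18720928b1440d134f859aa49539a8a588ac51559d71b6ab8d779f82748d00f05108314420718a24b30e42c8a35e89a74a4aab69651575c6e1658a6079f4e500c04e0902061cb24a1440cd3d1b2b65aa276179234d275b72079fa6a9a559552284f05108d00510320718b28939031762aa5a6669524e285b71d79f8289ebb165548e404e09000c1c818a2c91440cf44d8ab7db79d9a3925b2182aa2772965a5976154935041832051cb24a38c40d44f0810206e4a6885e72a8e29ec7e6765ad56576166935120c714610824a2cc40e3cd442040b29aab9a7a257dc81d8a47a18db6956165d95124c52041c318a2c940e3113cd08102bb12a559dd7e452265895e99c5da8606d6a234ea4493cb34a38c4081870800450c4b167209e89935235e1a5f65aa9b75e622ad592549128f24d2cc40e1872000420c4156aea62855a96391b7a04e17528a66695ec9d47dc44b3ca34940e3072060420041434eba6a7205a59178949da79da197db62399586c48940a38b30d3d10800450c42061dd7ea5684a59998d4860ad7b186da91c796a624e72d024e28c44d3c00420c41461c8b1a5696279966de86249f8d3724ad9a1796a51d80a40b38930f44d0420041431c81ac4ea4a86266a46625e07de5955258e785d71bae941130d38f2ca2450c42061c20016ab6294a74e55e366155651d71bb22aa47e07a6a0c34e3d044b2890c41461c80010a59a7a29aabb218a391c75b7e079a6585d65544d238f41130d2ca2441431c8181080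 (Nat.add (Nat.mul 45 i) j)

/-- adjacency -/
def A18 (i : ℕ) : ℕ := fld 45 35184372088831 0x2bc000000002ae000000000af000000000ab8000000002bc000000002ae000000001f8000000000fc0000000007e00000000000000000000000000000000000000000000000000000000000000000000000000000000000000000000000000000000 i

/-- adjacency -/
def A45 (i : ℕ) : ℕ := fld 45 35184372088831 0xa2724cc0000b2247a400002a624cb00003a221b4800002e255a400002a39196000026a19d2000022b12998000062a8e94000023a29cc0000622c2e600002328cd280001284397400006181e3c00000528ebc0000218788f00000529c174000050ae17800006dca888000019bc98400000fcd10c0000099f24a000006187e6000000f03fc00000001ff80c0000e76500a00005ecc406000000000000000000000000000000000000000000000000000000000000000000000000000000000000000000000000000000000000000000000000000000000000000000000000000000000000000000000000000000000000000000000000000000000000000 i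

set_option synthInstance.maxSize 100000 in
set_option synthInstance.maxHeartbeats 400000 in
theorem ck18 : Ck T45 A18 9 18 :=
  ⟨by decide +kernel, by decide +kernel, by decide +kernel, by decide +kernel⟩

set_option synthInstance.maxSize 100000 in
set_option synthInstance.maxHeartbeats 400000 in
theorem ck45 : Ck T45 A45 18 45 :=
  ⟨by decide +kernel, by decide +kernel, by decide +kernel, by decide +kernel⟩

theorem ck9 : ∀ u < 9, ∀ v < 9, T45 u v = T9 u v ∧ T45 u v < 9 ∧ (u ≠ v → T45 u v ≠ v) := by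
  decide +kernel

theorem cka : ∀ i < 45, gr (pv i) (pv i) = 2 ∧ ∀ j < 45,
    (pv (T45 i j) = pv j - gr (pv i) (pv j) • pv i ∨
      pv (T45 i j) = -(pv j - gr (pv i) (pv j) • pv i)) ∧ (pv i = pv j → i = j) ∧ pv i ≠ -pv j := by
  decide +kernel

theorem ckb : ∀ x, gr x x = 2 → ∃ i < 45, x = pv i ∨ x = -pv i := by decide +kernel

theorem ckc : ∀ x, (∀ i, gr (Pi.single i 1) x = 0) → x = 0 := by decide +kernel

theorem exists_real (h : U4M E) : ∃ f, Real 45 T45 E f := by
  obtain ⟨n, B, pt, u, r, s, h, uu, rr, ss, rs, ur, us, r0, s0, n1, n2, sp⟩ := h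
  have S := h.sf.symm
  have pu : ∀ x, B u (x + B u x • u) = 0 := fun x => by
    simp only [map_add, map_smul, uu, smul_eq_mul]
    generalize B u x = t; revert t; decide
  have sg : ∀ x y, B y y = 0 → B y x = 1 → B (x + B x x • y) (x + B x x • y) = 0 := fun x y a b => by
    simp only [map_add, map_smul, LinearMap.add_apply, LinearMap.smul_apply, smul_eq_mul, a, b, S x y]
    generalize B x x = t; revert t; decide
  have sr : B s r = 0 := (S _ _).trans rs
  have ru : B r u = 0 := (S _ _).trans ur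
  have su : B s u = 0 := (S _ _).trans us
  obtain ⟨f, ff, uf, rf, sf⟩ : ∃ f, B f f = 0 ∧ B u f = 0 ∧ B r f = 1 ∧ B s f = 0 := by
    obtain ⟨f, f1, f2⟩ := h.sf.two s0 r0 n1.symm fun e => n2 (by rw [e, neg_neg])
    obtain ⟨f, a, b, c⟩ : ∃ f, B u f = 0 ∧ B r f = 1 ∧ B s f = 0 :=
      ⟨_, pu f, by simp [S r f, f2, ru], by simp [S s f, f1, su]⟩
    exact ⟨_, sg f r rr b, by simp [*], by simp [*], by simp [*]⟩
  have fr : B f r = 1 := (S _ _).trans rf
  have fs : B f s = 0 := (S _ _).trans sf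
  have fu : B f u = 0 := (S _ _).trans uf
  obtain ⟨g, gg, ug, rg, sg', fg⟩ : ∃ g, B g g = 0 ∧ B u g = 0 ∧ B r g = 0 ∧ B s g = 1 ∧
      B f g = 0 := by
    obtain ⟨g, g1, g2⟩ := h.sf.two r0 s0 n1 n2
    obtain ⟨g, a, b, c⟩ : ∃ g, B u g = 0 ∧ B r g = 0 ∧ B s g = 1 :=
      ⟨_, pu g, by simp [S r g, g1, ru], by simp [S s g, g2, su]⟩
    obtain ⟨g, a, b, c, d⟩ : ∃ g, B u g = 0 ∧ B r g = 0 ∧ B s g = 1 ∧ B f g = 0 :=
      ⟨g - B f g • r, by simp [*], by simp [*], by simp [*], by simp [*]⟩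
    exact ⟨_, sg g s ss c, by simp [*], by simp [*], by simp [*], by simp [*]⟩
  have gu : B g u = 0 := (S _ _).trans ug
  have gr' : B g r = 0 := (S _ _).trans rg
  have gs : B g s = 1 := (S _ _).trans sg'
  have gf : B g f = 0 := (S _ _).trans fg
  clear sg
  let φ : (Fin 5 → ZMod 3) →ₗ[ZMod 3] (Fin n → ZMod 3) :=
    Fintype.linearCombination (ZMod 3) ![u, r, s, f, g]
  have hφ : ∀ t, φ t = t 0 • u + t 1 • r + t 2 • s + t 3 • f + t 4 • g := fun t => by
    simp [φ, Fintype.linearCombination_apply, Fin.sum_univ_five]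
  have hB : ∀ x y, B (φ x) (φ y) = gr x y := fun x y => by
    simp only [gr, hφ, map_add, map_smul, LinearMap.add_apply, LinearMap.smul_apply, smul_eq_mul,
      uu, rr, ss, rs, ur, us, sr, ru, su, ff, uf, rf, sf, fr, fs, fu, gg, ug, rg, sg', fg, gu, gr',
      gs, gf]
    ring
  have ij : Function.Injective φ := (injective_iff_map_eq_zero _).2 fun x e =>
    ckc x fun i => by rw [← hB, e, map_zero]
  have sj : Function.Surjective φ := fun z => by
    obtain ⟨a, b, e⟩ := sp (z + B u z • u - B r z • f - B s z • g)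
      (by rw [map_sub, map_sub, pu]; simp [*]) (by simp [*]) (by simp [*])
    refine ⟨![-B u z, a, b, B r z, B s z], ?_⟩
    rw [hφ]
    simp only [Matrix.cons_val]
    linear_combination (norm := module) -e
  have m : ∀ i < 45, B (φ (pv i)) (φ (pv i)) = 2 := fun i hi => by rw [hB, (cka i hi).1]
  refine ⟨fun i => pt (φ (pv i)), h.fs, ⟨fun i hi => h.mem _ (m i hi), fun i hi j hj e => ?_,
    fun x hx => ?_⟩, ck45.cl, fun i hi j hj => ?_⟩
  · rcases h.inj _ _ (m i hi) (m j hj) e with q | q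
    · exact ((cka i hi).2 j hj).2.1 (ij q)
    · exact absurd (ij (q.trans (map_neg φ _).symm)) ((cka i hi).2 j hj).2.2
  · obtain ⟨z, zz, rfl⟩ := h.surj x hx
    obtain ⟨t, rfl⟩ := sj z
    obtain ⟨i, hi, q | q⟩ := ckb t (by rwa [hB] at zz)
    · exact ⟨i, hi, by rw [q]⟩
    · exact ⟨i, hi, by rw [q, map_neg, h.neg]⟩
  · rw [h.op (m i hi) (m j hj), hB, ← map_smul, ← map_sub]
    rcases ((cka i hi).2 j hj).1 with q | q
    · rw [q]
    · rw [q, map_neg, h.neg]

end U4

open U4 in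
theorem sec_u4 (C : Cov π D E) (h : U4M E) : HasSc π D E := by
  obtain ⟨f, R⟩ := exists_real h
  have P : Pl E fun i => f (i % 9) := ⟨fun i => R.mem (by omega), fun u hu v hv => by
    simp only [Nat.mod_eq_of_lt hu, Nat.mod_eq_of_lt hv, ← (ck9 u hu v hv).1,
      Nat.mod_eq_of_lt (ck9 u hu v hv).2.1, R.hop u (by omega) v (by omega)], fun u hu v hv n => by
    simp only [Nat.mod_eq_of_lt hu, Nat.mod_eq_of_lt hv]
    rw [R.commute_iff (by omega) (by omega), com, beq_iff]
    exact (ck9 u hu v hv).2.2 n⟩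
  have S := C.plane P
  rw [Set.image_congr (g := f) fun i hi => by rw [Nat.mod_eq_of_lt hi]] at S
  have := ext_lt C R (by norm_num) le_rfl ck18.cl ck45
    (ext_lt C R (by norm_num) (by norm_num) (fun a ha b hb => (ck9 a ha b hb).2.1) ck18 S)
  rwa [R.bij.image_eq] at this

end CL.H3
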